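import Groth.Agent.Lib.OmegaPn27.Bott
import Groth.Agent.Lib.NegTwist.H0
import Groth.Agent.Lib.Euler.Section
import Groth.Agent.Lib.Cohom.LinearLES

/-!
# Two presentations by free modules
-/

set_option autoImplicit false
set_option maxHeartbeats 800000
set_option linter.all false
set_option backward.isDefEq.respectTransparency false

universe u

open CategoryTheory CategoryTheory.Limits AlgebraicGeometry Opposite TopologicalSpace
open GrothLib.Cohom (hhMap)

noncomputable section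

namespace GrothLib.HypRestrict28

variable {k : Type u} [Field k] {X : Scheme.{u}} [X.Over (Spec (CommRingCat.of k))]

/-- The unit section. -/
def unitClass (X : Scheme.{u}) : Coh.HH X (Coh.structureModule X) 0 :=
  (ProjCoh.H0top (Coh.structureModule X)).symm (FinCov.one X ⊤)

theorem hom_ext_unit {M : X.Modules} (φ ψ : Coh.structureModule X ⟶ M)
    (h : hhMap k φ 0 (unitClass X) = hhMap k ψ 0 (unitClass X)) : φ = ψ := by
  have h1 : φ.app ⊤ (FinCov.one X ⊤) = ψ.app ⊤ (FinCov.one X ⊤) := by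
    have := congrArg (ProjCoh.H0top M) h
    rwa [NegTwist.H0top_hhMap, NegTwist.H0top_hhMap, unitClass, AddEquiv.apply_symm_apply] at this
  have key : ∀ (χ : Coh.structureModule X ⟶ M) (V : X.Opens) (a : Γ(Coh.structureModule X, V)),
      χ.app V a = (show Γ(X, V) from a) • InvExt.mres M (le_top : V ≤ ⊤) (χ.app ⊤ (FinCov.one X ⊤)) := by
    intro χ V a
    rw [← Ample.app_mres χ (le_top : V ≤ ⊤) (FinCov.one X ⊤), ← Scheme.Modules.Hom.app_smul]
    refine congrArg (χ.app V) ?_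
    rw [show InvExt.mres (Coh.structureModule X) (le_top : V ≤ ⊤) (FinCov.one X ⊤) = FinCov.one X V from
      map_one (X.presheaf.map (homOfLE (le_top : V ≤ ⊤)).op).hom]
    exact (FinCov.smul_one V a).symm
  refine Scheme.Modules.hom_ext _ _ fun V => ?_
  ext a
  exact (key φ V a).trans ((congrArg _ (congrArg _ h1)).trans (key ψ V a).symm)

theorem exists_hom {M : X.Modules} (x : Coh.HH X M 0) :
    ∃ φ : Coh.structureModule X ⟶ M, hhMap k φ 0 (unitClass X) = x := by
  refine ⟨FinCov.homOfSection (ProjCoh.H0top M x), (ProjCoh.H0top M).injective ?_⟩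
  rw [NegTwist.H0top_hhMap, unitClass, AddEquiv.apply_symm_apply, FinCov.homOfSection_one]
  exact InvExt.mres_self M _

theorem sigma_ext {a : ℕ} {M : X.Modules} (φ ψ : (∐ fun _ : Fin a => Coh.structureModule X) ⟶ M)
    (h : ∀ l, hhMap k φ 0 (hhMap k (Sigma.ι (fun _ : Fin a => Coh.structureModule X) l) 0 (unitClass X)) =
      hhMap k ψ 0 (hhMap k (Sigma.ι (fun _ : Fin a => Coh.structureModule X) l) 0 (unitClass X))) : φ = ψ :=
  Sigma.hom_ext _ _ fun l => hom_ext_unit (k := k) _ _ (by rw [Euler.hhMap_comp, Euler.hhMap_comp]; exact h l)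

theorem exists_sigma_hom {a : ℕ} {M : X.Modules} (x : Fin a → Coh.HH X M 0) :
    ∃ φ : (∐ fun _ : Fin a => Coh.structureModule X) ⟶ M,
      ∀ l, hhMap k φ 0 (hhMap k (Sigma.ι (fun _ : Fin a => Coh.structureModule X) l) 0 (unitClass X)) = x l := by
  choose φ hφ using fun l => exists_hom (k := k) (x l)
  exact ⟨Sigma.desc φ, fun l => by rw [← Euler.hhMap_comp, Sigma.ι_desc]; exact hφ l⟩

/-- Two presentations with the same quotient: their kernels differ by a free summand. -/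
theorem nonempty_kernel_iso (h1O : Module.finrank k (Coh.HH X (Coh.structureModule X) 0) = 1) (m : ℕ)
    {S S' : ShortComplex X.Modules} (hS : S.ShortExact) (hS' : S'.ShortExact)
    (e₂ : S.X₂ ≅ ∐ fun _ : Fin (m + 2) => Coh.structureModule X)
    (e₂' : S'.X₂ ≅ ∐ fun _ : Fin (m + 1) => Coh.structureModule X) (e₃ : S.X₃ ≅ S'.X₃)
    (h : Subsingleton (Coh.HH X S.X₁ 1)) (h' : Subsingleton (Coh.HH X S'.X₁ 1))
    (h0 : Subsingleton (Coh.HH X S'.X₁ 0)) : Nonempty (S.X₁ ≅ S'.X₁ ⊞ Coh.structureModule X) := by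
  classical
  let b : (∐ fun _ : Fin (m + 2) => (Coh.structureModule X)) ⟶ S'.X₃ := e₂.inv ≫ S.g ≫ e₃.hom
  let b' : (∐ fun _ : Fin (m + 1) => (Coh.structureModule X)) ⟶ S'.X₃ := e₂'.inv ≫ S'.g
  have hbs : Function.Surjective (hhMap k b 0) := fun y => by
    obtain ⟨z, hz⟩ := (Cohom.exact₃ (A := k) hS 0 (hhMap k e₃.inv 0 y)).1 (Subsingleton.elim _ _)
    refine ⟨hhMap k e₂.hom 0 z, ?_⟩
    rw [← Euler.hhMap_comp, show e₂.hom ≫ b = S.g ≫ e₃.hom from e₂.hom_inv_id_assoc _, Euler.hhMap_comp, hz,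
      ← Euler.hhMap_comp, e₃.inv_hom_id, Euler.hhMap_id]
  have hb's : Function.Surjective (hhMap k b' 0) := fun y => by
    obtain ⟨z, hz⟩ := (Cohom.exact₃ (A := k) hS' 0 y).1 (Subsingleton.elim _ _)
    refine ⟨hhMap k e₂'.hom 0 z, ?_⟩
    rw [← Euler.hhMap_comp, show e₂'.hom ≫ b' = S'.g from e₂'.hom_inv_id_assoc _, hz]
  have hb'i : Function.Injective (hhMap k b' 0) := (injective_iff_map_eq_zero _).2 fun x hx => by
    obtain ⟨z, hz⟩ := (Cohom.exact₂ (A := k) hS' 0 (hhMap k e₂'.inv 0 x)).1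
      ((Euler.hhMap_comp (A := k) e₂'.inv S'.g 0 x).symm.trans hx)
    rw [Subsingleton.elim z 0, map_zero] at hz
    have h1 : hhMap k e₂'.hom 0 (hhMap k e₂'.inv 0 x) = x := by
      rw [← Euler.hhMap_comp, e₂'.inv_hom_id, Euler.hhMap_id]
    rw [← h1, ← hz, map_zero]
  -- the lifts
  choose xv hxv using fun l : Fin (m + 2) =>
    hb's (hhMap k b 0 (hhMap k (Sigma.ι (fun _ : Fin (m + 2) => (Coh.structureModule X)) l) 0 (unitClass X)))
  obtain ⟨v, hv⟩ := exists_sigma_hom (k := k) xv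
  have hvb : v ≫ b' = b := sigma_ext (k := k) _ _ fun l => by rw [Euler.hhMap_comp, hv]; exact hxv l
  choose xu hxu using fun l : Fin (m + 1) =>
    hbs (hhMap k b' 0 (hhMap k (Sigma.ι (fun _ : Fin (m + 1) => (Coh.structureModule X)) l) 0 (unitClass X)))
  obtain ⟨u, hu⟩ := exists_sigma_hom (k := k) xu
  have hub : u ≫ b = b' := sigma_ext (k := k) _ _ fun l => by rw [Euler.hhMap_comp, hu]; exact hxu l
  have huv : u ≫ v = 𝟙 _ := sigma_ext (k := k) _ _ fun l => hb'i (by
    rw [← Euler.hhMap_comp (A := k) (u ≫ v) b', Category.assoc, hvb, hub, Euler.hhMap_id])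
  -- the kernel of `v`
  have huvx : ∀ x, hhMap k v 0 (hhMap k u 0 x) = x := fun x => by
    rw [← Euler.hhMap_comp, huv, Euler.hhMap_id]
  haveI hfin : Module.Finite k (Coh.HH X (Coh.structureModule X) 0) := Module.finite_of_finrank_eq_succ h1O
  obtain ⟨p₂⟩ := OmegaPn27.nonempty_HH_sigma (A := k) (Coh.structureModule X) (m + 2) 0
  obtain ⟨p₁⟩ := OmegaPn27.nonempty_HH_sigma (A := k) (Coh.structureModule X) (m + 1) 0
  haveI := Module.Finite.equiv p₂.symm
  have hker : Module.finrank k (LinearMap.ker (hhMap k v 0)) = 1 := by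
    have hr := (hhMap k v 0).finrank_range_add_finrank_ker
    rw [LinearMap.range_eq_top.2 fun x => ⟨_, huvx x⟩, finrank_top, p₁.finrank_eq, p₂.finrank_eq,
      Module.finrank_pi_fintype, Module.finrank_pi_fintype] at hr
    simp only [h1O, Finset.sum_const, Finset.card_univ, Fintype.card_fin, smul_eq_mul, mul_one] at hr
    omega
  obtain ⟨z, hz0, hzspan⟩ := finrank_eq_one_iff'.1 hker
  have hvz : hhMap k v 0 z.1 = 0 := z.2
  obtain ⟨σ, hσ⟩ := exists_hom (k := k) z.1
  have hσv : σ ≫ v = 0 := hom_ext_unit (k := k) _ _ (by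
    rw [Euler.hhMap_comp, hσ, hvz, CurveRR.hhMap_zero_hom])
  have hσb : σ ≫ b = 0 := by rw [← hvb, ← Category.assoc, hσv, zero_comp]
  have he : unitClass X ≠ 0 := fun he => hz0 (Subtype.ext (by rw [← hσ, he, map_zero]; rfl))
  let μ : (∐ fun _ : Fin (m + 1) => (Coh.structureModule X)) ⊞ (Coh.structureModule X) ⟶ ∐ fun _ : Fin (m + 2) => (Coh.structureModule X) := biprod.desc u σ
  have hμv : μ ≫ v = biprod.fst := biprod.hom_ext' _ _ (by simp [μ, huv]) (by simp [μ, hσv])
  have hdec : ∀ x : Coh.HH X ((∐ fun _ : Fin (m + 1) => (Coh.structureModule X)) ⊞ (Coh.structureModule X)) 0,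
      hhMap k biprod.inl 0 (hhMap k biprod.fst 0 x) + hhMap k biprod.inr 0 (hhMap k biprod.snd 0 x) = x :=
    fun x => by
      rw [← Euler.hhMap_comp, ← Euler.hhMap_comp, ← CurveRR.hhMap_add, biprod.total, Euler.hhMap_id]
  have hμi : Function.Injective (hhMap k μ 0) := (injective_iff_map_eq_zero _).2 fun x hx => by
    have h1 : hhMap k biprod.fst 0 x = 0 := by rw [← hμv, Euler.hhMap_comp, hx, map_zero]
    have h2 : hhMap k σ 0 (hhMap k biprod.snd 0 x) = 0 := by
      have h3 := congrArg (hhMap k μ 0) (hdec x)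
      rw [h1, map_zero, zero_add, ← Euler.hhMap_comp, biprod.inr_desc, hx] at h3
      exact h3
    obtain ⟨c, hc⟩ := (finrank_eq_one_iff_of_nonzero' (unitClass X) he).1 h1O (hhMap k biprod.snd 0 x)
    rw [← hc, map_smul, hσ] at h2
    have hc0 : c = 0 := (smul_eq_zero.1 h2).resolve_right fun h => hz0 (Subtype.ext h)
    rw [← hdec x, h1, map_zero, zero_add, ← hc, hc0, zero_smul, map_zero]
  have hμs : Function.Surjective (hhMap k μ 0) := fun y => by
    obtain ⟨c, hc⟩ := hzspan ⟨y - hhMap k u 0 (hhMap k v 0 y), by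
      rw [LinearMap.mem_ker, map_sub, huvx, sub_self]⟩
    refine ⟨hhMap k biprod.inl 0 (hhMap k v 0 y) + c • hhMap k biprod.inr 0 (unitClass X), ?_⟩
    have hl : ∀ t, hhMap k μ 0 (hhMap k biprod.inl 0 t) = hhMap k u 0 t := fun t => by
      rw [← Euler.hhMap_comp, biprod.inl_desc]
    have hr : ∀ t, hhMap k μ 0 (hhMap k biprod.inr 0 t) = hhMap k σ 0 t := fun t => by
      rw [← Euler.hhMap_comp, biprod.inr_desc]
    rw [map_add, map_smul, hl, hr, hσ,
      show c • z.1 = y - hhMap k u 0 (hhMap k v 0 y) from congrArg Subtype.val hc]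
    abel
  choose xg hxg using fun l : Fin (m + 2) => hμs (hhMap k (Sigma.ι (fun _ : Fin (m + 2) => (Coh.structureModule X)) l) 0 (unitClass X))
  obtain ⟨g, hg⟩ := exists_sigma_hom (k := k) xg
  have hgμ : g ≫ μ = 𝟙 _ := sigma_ext (k := k) _ _ fun l => by
    rw [Euler.hhMap_comp, hg, hxg, Euler.hhMap_id]
  have hμg : μ ≫ g = 𝟙 _ := by
    refine biprod.hom_ext' _ _ (sigma_ext (k := k) _ _ fun l => hμi ?_) (hom_ext_unit (k := k) _ _ (hμi ?_))
    all_goals
      simp only [← Euler.hhMap_comp, Category.assoc, hgμ, Category.comp_id]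
  -- compare the kernels
  haveI := hS.mono_f
  haveI := hS'.mono_f
  have hμb : μ ≫ b = biprod.fst ≫ b' := by rw [← hμv, Category.assoc, hvb]
  let α : S.X₁ ⟶ (∐ fun _ : Fin (m + 1) => (Coh.structureModule X)) ⊞ (Coh.structureModule X) := S.f ≫ e₂.hom ≫ g
  let β : S'.X₁ ⊞ (Coh.structureModule X) ⟶ (∐ fun _ : Fin (m + 1) => (Coh.structureModule X)) ⊞ (Coh.structureModule X) := biprod.map (S'.f ≫ e₂'.hom) (𝟙 (Coh.structureModule X))
  have hαb : (α ≫ biprod.fst ≫ e₂'.inv) ≫ S'.g = 0 := by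
    have hstep : g ≫ biprod.fst ≫ b' = b := by rw [← hμb, ← Category.assoc, hgμ, Category.id_comp]
    calc (α ≫ biprod.fst ≫ e₂'.inv) ≫ S'.g = S.f ≫ e₂.hom ≫ g ≫ biprod.fst ≫ b' := by
          simp only [α, b', Category.assoc]
      _ = S.f ≫ S.g ≫ e₃.hom := by rw [hstep]; simp only [b, e₂.hom_inv_id_assoc]
      _ = 0 := by rw [← Category.assoc, S.zero, zero_comp]
  have hβb : (β ≫ μ ≫ e₂.inv) ≫ S.g = 0 := by
    rw [← cancel_mono e₃.hom, zero_comp]
    calc ((β ≫ μ ≫ e₂.inv) ≫ S.g) ≫ e₃.hom = β ≫ μ ≫ b := by simp only [b, Category.assoc]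
      _ = 0 := by
        rw [hμb, biprod.map_fst_assoc]
        simp only [b', Category.assoc, e₂'.hom_inv_id_assoc, S'.zero, comp_zero]
  let η : S.X₁ ⟶ S'.X₁ ⊞ (Coh.structureModule X) := biprod.lift (hS'.exact.lift _ hαb) (α ≫ biprod.snd)
  let θ : S'.X₁ ⊞ (Coh.structureModule X) ⟶ S.X₁ := hS.exact.lift _ hβb
  haveI : Mono β := by
    refine ⟨fun x y hxy => biprod.hom_ext _ _ ?_ ?_⟩
    · have := hxy =≫ biprod.fst
      simp only [β, Category.assoc, biprod.map_fst] at this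
      exact (cancel_mono (S'.f ≫ e₂'.hom)).1 (by simpa only [Category.assoc] using this)
    · simpa [β] using hxy =≫ biprod.snd
  have hηβ : η ≫ β = α := biprod.hom_ext _ _
    (by
      simp only [η, β, Category.assoc, biprod.map_fst, biprod.lift_fst_assoc]
      rw [← Category.assoc, hS'.exact.lift_f]
      simp only [Category.assoc, e₂'.inv_hom_id, Category.comp_id])
    (by simp [η, β])
  have hθα : θ ≫ α = β := by
    simp only [θ, α]
    rw [← Category.assoc, hS.exact.lift_f]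
    simp only [Category.assoc, e₂.inv_hom_id_assoc, hμg, Category.comp_id]
  haveI : Mono α := by
    haveI : Mono g := mono_of_mono_fac hgμ
    simp only [α]
    infer_instance
  exact ⟨⟨η, θ, (cancel_mono α).1 (by rw [Category.assoc, hθα, hηβ, Category.id_comp]),
    (cancel_mono β).1 (by rw [Category.assoc, hηβ, hθα, Category.id_comp])⟩⟩

end GrothLib.HypRestrict28
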