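import Groth.Agent.Lib.HypRestrict28.Free
import Groth.Agent.Lib.LineOmega28.Split
import Groth.Agent.Lib.LineFlag12.Basic
import Groth.Agent.Lib.LineFlag12.H0
import Groth.Agent.Lib.ASBun21.Horrocks
import Groth.Agent.Lib.NullCorr27.Basic
import Groth.Agent.Lib.BddFam20.Regular

/-!
# The cotangent bundle of projective space on a hyperplane
-/

set_option autoImplicit false
set_option maxHeartbeats 800000
set_option linter.all false
set_option backward.isDefEq.respectTransparency false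

universe u

open CategoryTheory CategoryTheory.Limits AlgebraicGeometry Opposite TopologicalSpace
open GrothLib.Cohom (hhMap)
open GrothLib.CMReg (Ft ftFun)

noncomputable section

namespace GrothLib.HypRestrict28

variable {k : Type u} [Field k]

/-- The structure module has one section. -/
theorem finrank_H0_O (m : ℕ) :
    Module.finrank k (Coh.HH (CohB1.ProjSpace m k) (Coh.structureModule (CohB1.ProjSpace m k)) 0) = 1 := by
  haveI := Chow.isProper_toSpec m k
  obtain ⟨e⟩ := OmegaPn27.nonempty_untwisted m k 0 (Nat.zero_le _)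
  obtain ⟨a⟩ := OmegaPn27.nonempty_Wt_zero_left m k 0
  obtain ⟨g⟩ := CMReg.nonempty_twist_zero (n := m) (k := k)
  rw [← Euler.hhEquiv (A := k) (a ≪≫ g) 0 |>.finrank_eq, e.finrank_eq, Module.finrank_self]

theorem subsingleton_omega_zero_two (N : ℕ) :
    Subsingleton (Coh.HH (CohB1.ProjSpace N k)
      (Ft (Omega.sheaf (CohB1.ProjSpace.toSpec N k)) 0) 2) := by
  haveI := Chow.isProper_toSpec N k
  obtain ⟨a⟩ := NullCorr27.nonempty_Wt_one N k 0
  exact OmegaPn27.subsingleton_iso N k a.symm (OmegaPn27.subsingleton_untwisted N k 1 2 (by omega))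

theorem subsingleton_omega_one (N : ℕ) {q : ℕ} (hq : 0 < q) :
    Subsingleton (Coh.HH (CohB1.ProjSpace N k)
      (Ft (Omega.sheaf (CohB1.ProjSpace.toSpec N k)) 1) q) := by
  haveI := Chow.isProper_toSpec N k
  obtain ⟨a⟩ := NullCorr27.nonempty_Wt_one N k 1
  exact OmegaPn27.subsingleton_iso N k a.symm (OmegaPn27.subsingleton_pos N k one_pos 1 hq)

theorem subsingleton_omega_one_zero (N : ℕ) :
    Subsingleton (Coh.HH (CohB1.ProjSpace N k)
      (Ft (Omega.sheaf (CohB1.ProjSpace.toSpec N k)) 1) 0) := by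
  haveI := Chow.isProper_toSpec N k
  obtain ⟨a⟩ := NullCorr27.nonempty_Wt_one N k 1
  refine OmegaPn27.subsingleton_iso N k a.symm ?_
  rcases Nat.eq_zero_or_pos N with rfl | hN
  · exact OmegaPn27.subsingleton_Wt_of_isZero 0 k one_pos 1 0
  · exact OmegaPn27.subsingleton_pos_zero N k hN one_pos le_rfl

/-- A closed embedding of projective space in itself is an isomorphism. -/
theorem isIso_endo {d : ℕ} (i : CohB1.ProjSpace (d + 1) k ⟶ CohB1.ProjSpace (d + 1) k) [IsClosedImmersion i] :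
    IsIso i := by
  rw [IsClosedImmersion.isIso_iff_ker_eq_bot]
  by_contra h
  have h1 := CI20.dim_subscheme_le i.ker h
  have h2 : topologicalKrullDim ↥(CohB1.ProjSpace (d + 1) k) ≤ topologicalKrullDim ↥i.ker.subscheme :=
    (asIso i.toImage).hom.isClosedEmbedding.isEmbedding.isInducing.topologicalKrullDim_le
  rw [LineFlag12.dim_projSpace] at h2
  have h3 := h2.trans h1
  exact absurd (show d + 1 ≤ d by exact_mod_cast h3) (by omega)

/-- The restricted cotangent bundle, twisted once, has no first cohomology. -/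
theorem subsingleton_restrict (m : ℕ) (i : CohB1.ProjSpace m k ⟶ CohB1.ProjSpace (m + 1) k) [IsClosedImmersion i]
    (hi : i ≫ CohB1.ProjSpace.toSpec (m + 1) k = CohB1.ProjSpace.toSpec m k)
    (hO : Nonempty ((Scheme.Modules.pullback i).obj (Twist.twistProjSpace (m + 1) k 1) ≅
      Twist.twistProjSpace m k 1)) :
    Subsingleton (Coh.HH (CohB1.ProjSpace m k)
      (Ft ((Scheme.Modules.pullback i).obj (Omega.sheaf (CohB1.ProjSpace.toSpec (m + 1) k))) 1) 1) := by
  haveI := Chow.isProper_toSpec (m + 1) k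
  haveI := Chow.isProper_toSpec m k
  have hE := OmegaPn27.isFinLocFreeOfRank_omegaP (m + 1) k
  have hq := (CMReg.isCoh_Ft (Euler.isCoh_of_isFinLocFree
      (FinCov.isFinLocFree_of_rank (OX.isFinLocFreeOfRank_pullback i hE))) 1).1
  rcases Nat.eq_zero_or_pos m with rfl | hm
  · haveI := hq
    exact RegSheaf.subsingleton_HH_ring_of_lt _ one_pos
  · obtain ⟨j, hjc, K, ι, w, hS, ⟨eK⟩, -, -, i', hi', hfac⟩ :=
      LineFlag12.exists_hyperplane_through hm le_rfl i hi hO
    haveI := hi'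
    haveI : IsIso i' := by
      obtain ⟨d, rfl⟩ : ∃ d, m = d + 1 := ⟨m - 1, by omega⟩
      exact isIso_endo i'
    have hker : i.ker = j.ker := by rw [← hfac, Scheme.Hom.ker_comp_of_isIso]
    obtain ⟨w₁, hS₁⟩ := CI20.exists_ses i j.ker hker
    obtain ⟨w₂, hS₂⟩ := CI20.exists_ses j j.ker rfl
    haveI := hS.mono_f
    haveI := hS₂.mono_f
    let eI : ClSub.idealMod j.ker ≅ K := hS₂.fIsKernel.conePointUniqueUpToIso hS.fIsKernel
    exact ASBun21.HorrocksGen.vanish_restrict (k := k) i (ClSub.idealModι j.ker) w₁ hS₁ (FinCov.isFinLocFree_of_rank hE)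
      (ASBun21.Horrocks.locFree_twist 1)
      (Ample.LineData.tensorModMapIso (eI ≪≫ eK) (Iso.refl _) ≪≫ ASBun21.Horrocks.downIso (m + 1) k 1)
      (CMReg.nonempty_pullback_twist hO 1).some hq 1 (subsingleton_omega_one (m + 1) one_pos)
      (by simpa using subsingleton_omega_zero_two (k := k) (m + 1))

theorem nonempty_Ft_sum (N a : ℕ) :
    Nonempty (Ft (∐ fun _ : Fin a => Twist.twistProjSpace N k (-1)) 1 ≅
      ∐ fun _ : Fin a => Coh.structureModule (CohB1.ProjSpace N k)) := by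
  obtain ⟨z⟩ := CMReg.nonempty_twist_zero (n := N) (k := k)
  obtain ⟨d⟩ := CMReg.nonempty_twist_add (n := N) (k := k) (show (-1 : ℤ) + 1 = 0 by norm_num)
  exact ⟨CMReg.tensorSigmaIso (X := CohB1.ProjSpace N k) (fun _ : Fin a => Twist.twistProjSpace N k (-1))
    (Twist.twistProjSpace N k 1) ≪≫ Sigma.mapIso fun _ => d ≪≫ z⟩

/-- The twisted Euler sequence of `P^N`. -/
theorem exists_twisted_euler (N : ℕ) :
    ∃ S : ShortComplex (CohB1.ProjSpace N k).Modules, S.ShortExact ∧
      Nonempty (S.X₁ ≅ Ft (Omega.sheaf (CohB1.ProjSpace.toSpec N k)) 1) ∧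
      Nonempty (S.X₂ ≅ ∐ fun _ : Fin (N + 1) => Coh.structureModule (CohB1.ProjSpace N k)) ∧
      Nonempty (S.X₃ ≅ Twist.twistProjSpace N k 1) := by
  haveI := Chow.isProper_toSpec N k
  obtain ⟨T, hT, ⟨t₁⟩, ⟨t₂⟩, ⟨t₃⟩⟩ := NullCorr27.exists_euler_sum N k
  obtain ⟨z⟩ := CMReg.nonempty_twist_zero (n := N) (k := k)
  obtain ⟨d⟩ := CMReg.nonempty_twist_add (n := N) (k := k) (show (-1 : ℤ) + 1 = 0 by norm_num)
  have p := nonempty_Ft_sum (k := k) N (N + 1)
  have q := CMReg.nonempty_Ft_structure (n := N) (k := k) 1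
  have hT' := CMReg.ft_shortExact (n := N) (k := k) hT 1
  refine ⟨_, hT', ?_, ?_, ?_⟩
  · exact ⟨(ftFun (n := N) (k := k) 1).mapIso t₁⟩
  · let e1 := (ftFun (n := N) (k := k) 1).mapIso t₂
    let e2 : (ftFun (n := N) (k := k) 1).obj (∐ fun _ : Fin (N + 1) => Twist.twistProjSpace N k (-1)) ≅
        ∐ fun _ : Fin (N + 1) => Coh.structureModule (CohB1.ProjSpace N k) := p.some
    exact ⟨e1.trans e2⟩
  · let e1 := (ftFun (n := N) (k := k) 1).mapIso t₃
    let e2 : (ftFun (n := N) (k := k) 1).obj (Coh.structureModule (CohB1.ProjSpace N k)) ≅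
        Twist.twistProjSpace N k 1 := q.some
    exact ⟨e1.trans e2⟩

/-- The cotangent bundle on a hyperplane splits. -/
theorem nonempty_split (m : ℕ) (i : CohB1.ProjSpace m k ⟶ CohB1.ProjSpace (m + 1) k) [IsClosedImmersion i]
    (hi : i ≫ CohB1.ProjSpace.toSpec (m + 1) k = CohB1.ProjSpace.toSpec m k)
    (hO : Nonempty ((Scheme.Modules.pullback i).obj (Twist.twistProjSpace (m + 1) k 1) ≅
      Twist.twistProjSpace m k 1)) :
    Nonempty ((Scheme.Modules.pullback i).obj (Omega.sheaf (CohB1.ProjSpace.toSpec (m + 1) k)) ≅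
      Omega.sheaf (CohB1.ProjSpace.toSpec m k) ⊞ Twist.twistProjSpace m k (-1)) := by
  haveI := Chow.isProper_toSpec (m + 1) k
  haveI := Chow.isProper_toSpec m k
  haveI : (Scheme.Modules.pullback i).IsLeftAdjoint := (Scheme.Modules.pullbackPushforwardAdjunction i).isLeftAdjoint
  haveI : (Scheme.Modules.pullback i).Additive :=
    (Scheme.Modules.pullbackPushforwardAdjunction i).left_adjoint_additive
  obtain ⟨a, b, w, hS⟩ := OmegaPn27.exists_euler (m + 1) (CohB1.ProjSpace.toSpec (m + 1) k)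
    (ProjPic26.chi (m + 1) k) (ProjPic26.isPullback_chi (m + 1) k)
  have hP := K0Sub.shortExact_map_pullback i _ hS
    (Euler.isFinLocFree_of_isInvertible (Euler.isInvertible_structure (X := CohB1.ProjSpace (m + 1) k)))
  obtain ⟨ps⟩ := LineOmega28.nonempty_pull_sum i (m + 1 + 1) (OmegaPn27.N1 (m + 1) (ProjPic26.chi (m + 1) k))
  obtain ⟨ν⟩ := OmegaPn27.nonempty_N1 (m + 1) k
  obtain ⟨τ⟩ := CMReg.nonempty_pullback_twist hO (-1)
  obtain ⟨g⟩ := Ample.nonempty_pullback_structureModule i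
  let P := (ShortComplex.mk a b w).map (Scheme.Modules.pullback i)
  have hT := CMReg.ft_shortExact (n := m) (k := k) (S := P) hP 1
  obtain ⟨S', hS', ⟨s₁⟩, ⟨s₂⟩, ⟨s₃⟩⟩ := exists_twisted_euler (k := k) m
  let μ : P.X₂ ≅ ∐ fun _ : Fin (m + 2) => Twist.twistProjSpace m k (-1) :=
    ps ≪≫ Sigma.mapIso fun _ => (Scheme.Modules.pullback i).mapIso ν ≪≫ τ
  let p : (ftFun (n := m) (k := k) 1).obj (∐ fun _ : Fin (m + 2) => Twist.twistProjSpace m k (-1)) ≅
      ∐ fun _ : Fin (m + 2) => Coh.structureModule (CohB1.ProjSpace m k) := (nonempty_Ft_sum (k := k) m (m + 2)).some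
  let q : (ftFun (n := m) (k := k) 1).obj (Coh.structureModule (CohB1.ProjSpace m k)) ≅
      Twist.twistProjSpace m k 1 := (CMReg.nonempty_Ft_structure (n := m) (k := k) 1).some
  let g' : P.X₃ ≅ Coh.structureModule (CohB1.ProjSpace m k) := g
  let e₂ := ((ftFun (n := m) (k := k) 1).mapIso μ).trans p
  let e₃ := (((ftFun (n := m) (k := k) 1).mapIso g').trans q).trans s₃.symm
  obtain ⟨e⟩ := nonempty_kernel_iso (k := k) (finrank_H0_O m) m hT hS' e₂ s₂ e₃ (subsingleton_restrict m i hi hO)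
    (CMReg.subsingleton_of_iso s₁.symm (subsingleton_omega_one m one_pos))
    (CMReg.subsingleton_of_iso s₁.symm (subsingleton_omega_one_zero m))
  let E := (Scheme.Modules.pullback i).obj (Omega.sheaf (CohB1.ProjSpace.toSpec (m + 1) k))
  obtain ⟨c⟩ := CMReg.nonempty_Ft_Ft E 1 (-1) 0 (by norm_num)
  obtain ⟨c'⟩ := CMReg.nonempty_Ft_Ft (Omega.sheaf (CohB1.ProjSpace.toSpec m k)) 1 (-1) 0 (by norm_num)
  obtain ⟨x⟩ := BddFam20.nonempty_Ft_zero E
  obtain ⟨x'⟩ := BddFam20.nonempty_Ft_zero (Omega.sheaf (CohB1.ProjSpace.toSpec m k))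
  haveI : PreservesColimitsOfShape (Discrete WalkingPair) (ftFun (n := m) (k := k) (-1)) := by
    unfold CMReg.ftFun
    infer_instance
  haveI : PreservesBinaryBiproducts (ftFun (n := m) (k := k) (-1)) :=
    preservesBinaryBiproducts_of_preservesBinaryCoproducts _
  haveI : (ftFun (n := m) (k := k) (-1)).Additive := Functor.additive_of_preservesBinaryBiproducts _
  exact ⟨x.symm ≪≫ c.symm ≪≫ (ftFun (n := m) (k := k) (-1)).mapIso e ≪≫
    (ftFun (n := m) (k := k) (-1)).mapBiprod _ _ ≪≫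
    biprod.mapIso ((ftFun (n := m) (k := k) (-1)).mapIso s₁ ≪≫ c' ≪≫ x') (OX.tensorUnitLeftIso _)⟩

end GrothLib.HypRestrict28
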