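import Groth.Agent.Lib.HypRestrict28.Main
import Groth.Agent.Lib.OX.PullbackTensor
import Groth.Agent.Lib.Euler.Slope2

/-!
# A null-correlation bundle on a plane
-/

set_option autoImplicit false
set_option maxHeartbeats 800000
set_option linter.all false
set_option backward.isDefEq.respectTransparency false

universe u

open CategoryTheory CategoryTheory.Limits AlgebraicGeometry Opposite TopologicalSpace
open GrothLib.Cohom (hhMap)
open GrothLib.CMReg (Ft ftFun)

noncomputable section

namespace GrothLib.HypRestrict28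

variable {k : Type u} [Field k]

theorem subsingleton_biprod {X : Scheme.{u}} [X.Over (Spec (CommRingCat.of k))] {A B : X.Modules} (q : ℕ)
    (hA : Subsingleton (Coh.HH X A q)) (hB : Subsingleton (Coh.HH X B q)) :
    Subsingleton (Coh.HH X (A ⊞ B) q) := by
  refine subsingleton_of_forall_eq 0 fun x => ?_
  rw [← Euler.hhMap_id (A := k) _ q x, ← biprod.total, CurveRR.hhMap_add, Euler.hhMap_comp, Euler.hhMap_comp,
    Subsingleton.elim (hhMap k biprod.fst q x) 0, Subsingleton.elim (hhMap k biprod.snd q x) 0, map_zero, map_zero,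
    add_zero]

theorem subsingleton_omega_zero (N : ℕ) :
    Subsingleton (Coh.HH (CohB1.ProjSpace N k) (Omega.sheaf (CohB1.ProjSpace.toSpec N k)) 0) := by
  haveI := Chow.isProper_toSpec N k
  obtain ⟨a⟩ := NullCorr27.nonempty_Wt_one N k 0
  obtain ⟨x⟩ := BddFam20.nonempty_Ft_zero (Omega.sheaf (CohB1.ProjSpace.toSpec N k))
  exact OmegaPn27.subsingleton_iso N k (a ≪≫ x).symm (OmegaPn27.subsingleton_untwisted N k 1 0 (by omega))

/-- The restriction of a quotient of `Ω(1)` by `O(-1)`. -/
theorem semistable_restrict (m : ℕ) (hm : 2 ≤ m)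
    (u : Twist.twistProjSpace (m + 1) k (-1) ⟶
      CohB1.tensorMod (Omega.sheaf (CohB1.ProjSpace.toSpec (m + 1) k)) (Twist.twistProjSpace (m + 1) k 1))
    [Mono u] {r : ℕ} (hM : FlatMod.IsFinLocFreeOfRank r (cokernel u))
    (i : CohB1.ProjSpace m k ⟶ CohB1.ProjSpace (m + 1) k) [IsClosedImmersion i]
    (hi : i ≫ CohB1.ProjSpace.toSpec (m + 1) k = CohB1.ProjSpace.toSpec m k)
    (hO : Nonempty ((Scheme.Modules.pullback i).obj (Twist.twistProjSpace (m + 1) k 1) ≅
      Twist.twistProjSpace m k 1)) :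
    Subsingleton (Coh.HH (CohB1.ProjSpace m k)
        (CohB1.tensorMod ((Scheme.Modules.pullback i).obj (cokernel u)) (Twist.twistProjSpace m k (-1))) 0) ∧
      Nontrivial (Coh.HH (CohB1.ProjSpace m k) ((Scheme.Modules.pullback i).obj (cokernel u)) 0) := by
  haveI := Chow.isProper_toSpec m k
  haveI : (Scheme.Modules.pullback i).IsLeftAdjoint := (Scheme.Modules.pullbackPushforwardAdjunction i).isLeftAdjoint
  haveI : (Scheme.Modules.pullback i).Additive :=
    (Scheme.Modules.pullbackPushforwardAdjunction i).left_adjoint_additive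
  obtain ⟨τ⟩ := CMReg.nonempty_pullback_twist hO (-1)
  obtain ⟨τ1⟩ := CMReg.nonempty_pullback_twist hO 1
  obtain ⟨ψ⟩ := nonempty_split m i hi hO
  let ΩH := Omega.sheaf (CohB1.ProjSpace.toSpec m k)
  haveI : PreservesColimitsOfShape (Discrete WalkingPair) (ftFun (n := m) (k := k) 1) := by
    unfold CMReg.ftFun
    infer_instance
  haveI : PreservesBinaryBiproducts (ftFun (n := m) (k := k) 1) :=
    preservesBinaryBiproducts_of_preservesBinaryCoproducts _
  haveI : (ftFun (n := m) (k := k) 1).Additive := Functor.additive_of_preservesBinaryBiproducts _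
  obtain ⟨d⟩ := CMReg.nonempty_twist_add (n := m) (k := k) (show (-1 : ℤ) + 1 = 0 by norm_num)
  obtain ⟨z⟩ := CMReg.nonempty_twist_zero (n := m) (k := k)
  let dz : (ftFun (n := m) (k := k) 1).obj (Twist.twistProjSpace m k (-1)) ≅
      Coh.structureModule (CohB1.ProjSpace m k) := d ≪≫ z
  let p0 := OX.pullTensorIso i (Omega.sheaf (CohB1.ProjSpace.toSpec (m + 1) k)) (Twist.twistProjSpace (m + 1) k 1)
  let p1 : CohB1.tensorMod ((Scheme.Modules.pullback i).obj (Omega.sheaf (CohB1.ProjSpace.toSpec (m + 1) k)))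
      ((Scheme.Modules.pullback i).obj (Twist.twistProjSpace (m + 1) k 1)) ≅
      (ftFun (n := m) (k := k) 1).obj (ΩH ⊞ Twist.twistProjSpace m k (-1)) :=
    Ample.LineData.tensorModMapIso ψ τ1
  let p2 := (ftFun (n := m) (k := k) 1).mapBiprod ΩH (Twist.twistProjSpace m k (-1))
  let p3 : (ftFun (n := m) (k := k) 1).obj ΩH ≅ Ft ΩH 1 := Iso.refl _
  let μ : (Scheme.Modules.pullback i).obj
      (CohB1.tensorMod (Omega.sheaf (CohB1.ProjSpace.toSpec (m + 1) k)) (Twist.twistProjSpace (m + 1) k 1)) ≅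
      Ft ΩH 1 ⊞ Coh.structureModule (CohB1.ProjSpace m k) :=
    p0.trans (p1.trans (p2.trans (biprod.mapIso p3 dz)))
  have hP := K0Sub.shortExact_map_pullback i _ (Euler.cokernel_shortExact u) (FinCov.isFinLocFree_of_rank hM)
  let P := (ShortComplex.mk u (cokernel.π u) (cokernel.condition u)).map (Scheme.Modules.pullback i)
  have hneg : ∀ (d : ℤ), d < 0 → ∀ q : ℕ, q < m → Subsingleton (Coh.HH (CohB1.ProjSpace m k)
      (Twist.twistProjSpace m k d) q) :=
    fun d hd q hq => ProjCohom.subsingleton_HH (fun h => by omega) (fun h => by omega)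
  constructor
  · have hT := CMReg.ft_shortExact (n := m) (k := k) (S := P) hP (-1)
    haveI : PreservesColimitsOfShape (Discrete WalkingPair) (ftFun (n := m) (k := k) (-1)) := by
      unfold CMReg.ftFun
      infer_instance
    haveI : PreservesBinaryBiproducts (ftFun (n := m) (k := k) (-1)) :=
      preservesBinaryBiproducts_of_preservesBinaryCoproducts _
    obtain ⟨d2⟩ := CMReg.nonempty_twist_add (n := m) (k := k) (show (-1 : ℤ) + (-1) = -2 by norm_num)
    let e1 : (P.map (ftFun (n := m) (k := k) (-1))).X₁ ≅ Twist.twistProjSpace m k (-2) :=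
      ((ftFun (n := m) (k := k) (-1)).mapIso τ).trans d2
    obtain ⟨c⟩ := CMReg.nonempty_Ft_Ft ΩH 1 (-1) 0 (by norm_num)
    obtain ⟨x⟩ := BddFam20.nonempty_Ft_zero ΩH
    let q : (ftFun (n := m) (k := k) (-1)).obj (Coh.structureModule (CohB1.ProjSpace m k)) ≅
        Twist.twistProjSpace m k (-1) := (CMReg.nonempty_Ft_structure (n := m) (k := k) (-1)).some
    let cx : (ftFun (n := m) (k := k) (-1)).obj (Ft ΩH 1) ≅ ΩH := c ≪≫ x
    let e2 : (P.map (ftFun (n := m) (k := k) (-1))).X₂ ≅ ΩH ⊞ Twist.twistProjSpace m k (-1) :=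
      ((ftFun (n := m) (k := k) (-1)).mapIso μ).trans
        (((ftFun (n := m) (k := k) (-1)).mapBiprod _ _).trans (biprod.mapIso cx q))
    exact CMReg.subsingleton_X₃ hT
      (CMReg.subsingleton_of_iso e2.symm (subsingleton_biprod (k := k) 0 (subsingleton_omega_zero m)
        (hneg (-1) (by norm_num) 0 (by omega))))
      (CMReg.subsingleton_of_iso e1.symm (hneg (-2) (by norm_num) 1 (by omega)))
  · let s : Coh.HH (CohB1.ProjSpace m k) (Coh.structureModule (CohB1.ProjSpace m k)) 0 := unitClass _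
    refine nontrivial_of_ne
      (hhMap k P.g 0 (hhMap k (biprod.inr ≫ μ.inv) 0 s)) 0 fun h0 => ?_
    obtain ⟨y, hy⟩ := (Cohom.exact₂ (A := k) hP 0 _).1 h0
    haveI : Subsingleton (Coh.HH (CohB1.ProjSpace m k) P.X₁ 0) :=
      CMReg.subsingleton_of_iso τ.symm (hneg (-1) (by norm_num) 0 (by omega))
    rw [Subsingleton.elim y 0, map_zero] at hy
    have hs : s = 0 := by
      have h1 : (biprod.inr ≫ μ.inv) ≫ μ.hom ≫ biprod.snd = 𝟙 (Coh.structureModule (CohB1.ProjSpace m k)) := by
        simp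
      rw [← Euler.hhMap_id (A := k) _ 0 s, ← h1, Euler.hhMap_comp]
      exact (congrArg _ hy.symm).trans (map_zero _)
    have h1 := finrank_H0_O (k := k) m
    haveI : Subsingleton (Coh.HH (CohB1.ProjSpace m k) (Coh.structureModule (CohB1.ProjSpace m k)) 0) := by
      refine subsingleton_of_forall_eq 0 fun x => ?_
      obtain ⟨φ, hφ⟩ := exists_hom (k := k) x
      rw [← hφ, show unitClass (CohB1.ProjSpace m k) = 0 from hs, map_zero]
    rw [Module.finrank_zero_of_subsingleton] at h1
    omega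

end GrothLib.HypRestrict28
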